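import Mathlib
import Cfsg.Agent.Lib.GTwoZorn.Card
import Cfsg.Agent.Lib.LinearPGroup.BlockMonomial
import Cfsg.Agent.Lib.LinearPGroup.SylowTwoModels

/-!
# The Sylow 2-subgroups of `G₂(q)`, `q` odd
-/

set_option autoImplicit false

namespace Cfsg.Agent.GTwoZorn

open Matrix Cfsg.Agent.BlockMonomial Cfsg.Agent.SylowTwoOrders Cfsg.Agent.SylowTwoModels

variable {F : Type*} [Field F] [Fintype F]

theorem sqComm_sylow_two (hF : Odd (Fintype.card F)) (P : Sylow 2 (Cfsg.Lie.G2 F)) :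
    SqComm (P : Subgroup (Cfsg.Lie.G2 F)) := by
  classical
  haveI : Fact (Nat.Prime 2) := ⟨Nat.prime_two⟩
  obtain ⟨μ⟩ : Nonempty (Sylow 2 Fˣ) := inferInstance
  obtain ⟨⟨ζ, hζμ⟩, hζ⟩ := IsCyclic.exists_generator (α := (μ : Subgroup Fˣ))
  have hμcard : Nat.card (μ : Subgroup Fˣ) = 2 ^ (Fintype.card F - 1).factorization 2 := by
    rw [μ.card_eq_multiplicity, Nat.card_units, Nat.card_eq_fintype_card]
  obtain ⟨u, hu⟩ : ∃ u : GL (Fin 2) F, (u : Matrix (Fin 2) (Fin 2) F) = !![0, 1; -(ζ : F), 0] :=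
    (Matrix.isUnit_iff_isUnit_det _).2 (by simp [Matrix.det_fin_two_of])
  have hudet : Matrix.GeneralLinearGroup.det u = ζ := Units.ext (by
    show (u : Matrix (Fin 2) (Fin 2) F).det = _
    rw [hu, Matrix.det_fin_two_of]; ring)
  have husq : ((u * u : GL (Fin 2) F) : Matrix (Fin 2) (Fin 2) F) = (-(ζ : F)) • 1 := by
    rw [Units.val_mul, hu]
    ext i j
    fin_cases i <;> fin_cases j <;> simp [Matrix.mul_apply]
  have hup : IsPGroup 2 (Subgroup.zpowers u) := by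
    obtain ⟨n, hn⟩ := μ.isPGroup' ⟨ζ, hζμ⟩
    have h1 : u ^ (2 * 2 ^ (n + 1)) = 1 := by
      refine Units.ext ?_
      rw [pow_mul, sq, Units.val_pow_eq_pow_val, husq, smul_pow, one_pow, Units.val_one]
      have h : (ζ : F) ^ 2 ^ n = 1 := by
        have := congrArg (fun x : (μ : Subgroup Fˣ) => ((x : Fˣ) : F)) hn
        simpa using this
      rw [pow_succ, pow_mul', neg_sq, ← pow_mul, mul_comm, pow_mul, h, one_pow, one_smul]
    obtain ⟨k, -, hk⟩ := (Nat.dvd_prime_pow Nat.prime_two).1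
      (orderOf_dvd_of_pow_eq_one (x := u) (n := 2 ^ (n + 1 + 1)) (by rw [pow_succ', h1]))
    exact IsPGroup.of_card (n := k) (by rw [Nat.card_zpowers, hk])
  obtain ⟨D, hD⟩ := hup.exists_le_sylow
  have huD : u ∈ (D : Subgroup (GL (Fin 2) F)) := hD (Subgroup.mem_zpowers u)
  let dd : (D : Subgroup (GL (Fin 2) F)) →* Fˣ :=
    Matrix.GeneralLinearGroup.det.comp (D : Subgroup (GL (Fin 2) F)).subtype
  have hmu : ∀ (H : Subgroup Fˣ), IsPGroup 2 H → H ≤ (μ : Subgroup Fˣ) := fun H hH => by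
    obtain ⟨μ', hμ'⟩ := hH.exists_le_sylow
    obtain ⟨g, hg⟩ := MulAction.exists_smul_eq Fˣ μ' μ
    rw [← hg, Sylow.coe_subgroup_smul]
    intro x hx
    exact ⟨x, hμ' hx, by simp⟩
  have hrange : dd.range = (μ : Subgroup Fˣ) := by
    refine le_antisymm (hmu _ (D.isPGroup'.of_surjective dd.rangeRestrict dd.rangeRestrict_surjective)) ?_
    intro x hx
    obtain ⟨i, hi⟩ := Subgroup.mem_zpowers_iff.1 (hζ ⟨x, hx⟩)
    exact ⟨⟨u, huD⟩ ^ i, by
      rw [map_zpow, show dd ⟨u, huD⟩ = ζ from hudet]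
      exact congrArg Subtype.val hi⟩
  have hDcard : Nat.card (D : Subgroup (GL (Fin 2) F)) =
      2 ^ ((Fintype.card F - 1).factorization 2 + (Fintype.card F ^ 2 - 1).factorization 2) := by
    rw [D.card_eq_multiplicity, fact_GL_sum rfl hF]
    simp [Finset.sum_range_succ]
  have hS0card : Nat.card dd.ker = 2 ^ (Fintype.card F ^ 2 - 1).factorization 2 := by
    have h := Subgroup.card_eq_card_quotient_mul_card_subgroup dd.ker
    rw [Nat.card_congr (QuotientGroup.quotientKerEquivRange dd).toEquiv, hrange, hμcard, hDcard,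
      pow_add] at h
    exact (Nat.eq_of_mul_eq_mul_left (by positivity) h).symm
  have hS0 : SqComm dd.ker := by
    have hlift : ∀ d : dd.ker, ((d : (D : Subgroup (GL (Fin 2) F))) : GL (Fin 2) F) ∈
        (Matrix.SpecialLinearGroup.toGL : Matrix.SpecialLinearGroup (Fin 2) F →* GL (Fin 2) F).range := by
      intro d
      rw [CfsgLib.Classical.range_toGL_eq_ker_det]
      exact d.2
    choose g hg using hlift
    have hinj := CfsgLib.Classical.toGL_injective' (ι := Fin 2) (F := F)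
    obtain ⟨T⟩ : Nonempty (Sylow 2 (Matrix.SpecialLinearGroup (Fin 2) F)) := inferInstance
    obtain ⟨e⟩ := CfsgLib.Classical.SylowLargePrime.sylow_iso
      (MonoidHom.mk' g fun a b => hinj (by
        rw [hg, map_mul, hg, hg, Subgroup.coe_mul, Subgroup.coe_mul]))
      (fun a b h => Subtype.ext (Subtype.ext (by rw [← hg a, ← hg b]; exact congrArg _ h)))
      (by rw [hS0card, fact_SL_two rfl hF]) T
    exact sqComm_congr e (sqComm_SL2 hF T)
  -- pairs
  let Δ : (↥(D : Subgroup (GL (Fin 2) F)) × ↥(D : Subgroup (GL (Fin 2) F))) →* Fˣ :=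
    (dd.comp (MonoidHom.fst _ _)) / (dd.comp (MonoidHom.snd _ _))
  have hΔ : ∀ x, x ∈ Δ.ker ↔ dd x.1 = dd x.2 := fun x => by
    rw [MonoidHom.mem_ker]; exact div_eq_one
  have hΔrange : Δ.range = (μ : Subgroup Fˣ) := by
    refine le_antisymm ?_ fun x hx => ?_
    · rintro _ ⟨p, rfl⟩
      exact Subgroup.div_mem _ (hrange ▸ ⟨p.1, rfl⟩) (hrange ▸ ⟨p.2, rfl⟩)
    · rw [← hrange] at hx
      obtain ⟨d, rfl⟩ := hx
      exact ⟨(d, 1), by simp [Δ]⟩
  obtain ⟨f, hf⟩ := exists_pairHom (F := F)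
  let inc : Δ.ker →* Pairs F :=
    (((D : Subgroup (GL (Fin 2) F)).subtype.prodMap (D : Subgroup (GL (Fin 2) F)).subtype).comp
      Δ.ker.subtype).codRestrict (Pairs F) fun x => (hΔ _).1 x.2
  let ψ : Δ.ker →* Cfsg.Lie.G2 F := f.comp inc
  have hker : Nat.card ψ.ker ≤ Nat.card (μ : Subgroup Fˣ) := by
    have h : ∀ x : ψ.ker, ∃ l : Fˣ, l ∈ (μ : Subgroup Fˣ) ∧
        ((x.1.1.1 : GL (Fin 2) F) : Matrix (Fin 2) (Fin 2) F) = (l : F) • 1 ∧
        ((x.1.1.2 : GL (Fin 2) F) : Matrix (Fin 2) (Fin 2) F) = (l : F) • 1 := by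
      intro x
      obtain ⟨c, hc⟩ : ∃ c : GL (Fin 2) F, c = (x.1.1.1 : GL (Fin 2) F) := ⟨_, rfl⟩
      obtain ⟨d, hd⟩ : ∃ d : GL (Fin 2) F, d = (x.1.1.2 : GL (Fin 2) F) := ⟨_, rfl⟩
      have hx : f (inc x.1) = 1 := x.2
      have hfix : ∀ M : Matrix (Fin 2) (Fin 2) F,
          M * (c : Matrix (Fin 2) (Fin 2) F) = (c : Matrix (Fin 2) (Fin 2) F) * M ∧
          M * (c : Matrix (Fin 2) (Fin 2) F) = (d : Matrix (Fin 2) (Fin 2) F) * M := by
        intro M
        have h := hf (inc x.1) (ofMW M M)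
        rw [hx, OneMemClass.coe_one, Units.val_one, Matrix.one_mulVec, toM_ofMW, toW_ofMW,
          show (inc x.1).1.1 = c from hc.symm, show (inc x.1).1.2 = d from hd.symm] at h
        constructor
        · conv_lhs => rw [h.1]
          rw [mul_assoc, Units.inv_mul, mul_one]
        · conv_lhs => rw [h.2]
          rw [mul_assoc, Units.inv_mul, mul_one]
      have hdc : d = c := Units.ext (by simpa using ((hfix 1).2).symm)
      have e1 := congrFun (congrFun (hfix !![1, 0; 0, 0]).1 0) 1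
      have e2 := congrFun (congrFun (hfix !![1, 0; 0, 0]).1 1) 0
      have e3 := congrFun (congrFun (hfix !![0, 1; 0, 0]).1 0) 1
      simp [Matrix.mul_apply] at e1 e2 e3
      have hne : (c : Matrix (Fin 2) (Fin 2) F) 0 0 ≠ 0 := fun h => by
        have hd0 : (c : Matrix (Fin 2) (Fin 2) F).det ≠ 0 :=
          ((Matrix.isUnit_iff_isUnit_det _).1 c.isUnit).ne_zero
        exact hd0 (by rw [Matrix.det_fin_two, h, e1]; ring)
      have hcl : (c : Matrix (Fin 2) (Fin 2) F) = ((Units.mk0 _ hne : Fˣ) : F) • 1 := by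
        ext i j
        fin_cases i <;> fin_cases j <;> simp [e1, ← e2, e3]
      refine ⟨Units.mk0 _ hne, ?_, hc ▸ hcl, by rw [← hd, hdc]; exact hcl⟩
      obtain ⟨n, hn⟩ := D.isPGroup' x.1.1.1
      have hl : (Units.mk0 _ hne : Fˣ) ^ 2 ^ n = 1 := by
        have := congrArg (fun y : (D : Subgroup (GL (Fin 2) F)) =>
          ((y : GL (Fin 2) F) : Matrix (Fin 2) (Fin 2) F) 0 0) hn
        simp only [SubmonoidClass.coe_pow, ← hc, OneMemClass.coe_one, Units.val_pow_eq_pow_val,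
          Units.val_one, Matrix.one_apply_eq] at this
        rw [hcl, smul_pow, one_pow] at this
        exact Units.ext (by simpa using this)
      have hp : IsPGroup 2 (Subgroup.zpowers (Units.mk0 _ hne : Fˣ)) := by
        obtain ⟨k, -, hk⟩ := (Nat.dvd_prime_pow Nat.prime_two).1 (orderOf_dvd_of_pow_eq_one hl)
        exact IsPGroup.of_card (n := k) (by rw [Nat.card_zpowers, hk])
      exact hmu _ hp (Subgroup.mem_zpowers _)
    choose l hl hl1 hl2 using h
    refine Nat.card_le_card_of_injective (fun x => (⟨l x, hl x⟩ : (μ : Subgroup Fˣ))) fun x y hxy => ?_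
    have e := congrArg (fun z : (μ : Subgroup Fˣ) => ((z : Fˣ) : F)) hxy
    dsimp only at e
    exact Subtype.ext (Subtype.ext (Prod.ext (Subtype.ext (Units.ext (by rw [hl1, hl1, e])))
      (Subtype.ext (Units.ext (by rw [hl2, hl2, e])))))
  -- the image is a Sylow subgroup
  obtain ⟨V, hV⟩ : ∃ V, (Fintype.card F ^ 2 - 1).factorization 2 = V := ⟨_, rfl⟩
  obtain ⟨a, ha⟩ : ∃ a, (Fintype.card F - 1).factorization 2 = a := ⟨_, rfl⟩
  rw [hV, ha] at hDcard
  rw [ha] at hμcard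
  have hC : 2 ^ a * Nat.card Δ.ker = 2 ^ (2 * (a + V)) := by
    rw [← hμcard, ← hΔrange, ← Nat.card_congr (QuotientGroup.quotientKerEquivRange Δ).toEquiv,
      ← Subgroup.card_eq_card_quotient_mul_card_subgroup, Nat.card_prod, hDcard, ← pow_add]
    congr 1; omega
  have hrle : 2 ^ (2 * V) ≤ Nat.card ψ.range := by
    have h := Subgroup.card_eq_card_quotient_mul_card_subgroup ψ.ker
    rw [Nat.card_congr (QuotientGroup.quotientKerEquivRange ψ).toEquiv] at h
    rw [h] at hC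
    rw [hμcard] at hker
    refine le_of_mul_le_mul_right (a := 2 ^ a * 2 ^ a) ?_ (by positivity)
    calc 2 ^ (2 * V) * (2 ^ a * 2 ^ a) = 2 ^ (2 * (a + V)) := by rw [← pow_add, ← pow_add]; congr 1; omega
      _ = 2 ^ a * (Nat.card ψ.range * Nat.card ψ.ker) := hC.symm
      _ ≤ 2 ^ a * (Nat.card ψ.range * 2 ^ a) := by gcongr
      _ = Nat.card ψ.range * (2 ^ a * 2 ^ a) := by ring
  have hpC : IsPGroup 2 Δ.ker := by
    obtain ⟨k, -, hk⟩ := (Nat.dvd_prime_pow Nat.prime_two).1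
      (show Nat.card Δ.ker ∣ 2 ^ (2 * (a + V)) from ⟨2 ^ a, by rw [← hC, mul_comm]⟩)
    exact IsPGroup.of_card (n := k) hk
  have hcard : Nat.card ψ.range = 2 ^ (Nat.card (Cfsg.Lie.G2 F)).factorization 2 := by
    obtain ⟨k, hk⟩ := (hpC.of_surjective ψ.rangeRestrict ψ.rangeRestrict_surjective).exists_card_eq
    have hle : k ≤ (Nat.card (Cfsg.Lie.G2 F)).factorization 2 :=
      (Nat.prime_two.pow_dvd_iff_le_factorization Nat.card_pos.ne').1
        (hk ▸ Subgroup.card_subgroup_dvd_card ψ.range)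
    rw [fact_G2 hF, hV] at hle ⊢
    rw [hk] at hrle ⊢
    have := (Nat.pow_le_pow_iff_right (by norm_num : 1 < 2)).1 hrle
    congr 1; omega
  -- squares
  let ρ := ψ.rangeRestrict
  let cc : Δ.ker := ⟨(⟨u, huD⟩, ⟨u, huD⟩), (hΔ _).2 rfl⟩
  have hccsq : ρ cc ^ 2 = 1 := by
    refine Subtype.ext ?_
    show (ψ cc) ^ 2 = 1
    rw [← map_pow]
    refine Subtype.ext (Units.ext (Matrix.ext_iff_mulVec.mpr fun x => ?_))
    show _ = ((1 : GL (Fin 8) F) : Matrix (Fin 8) (Fin 8) F) *ᵥ x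
    rw [Units.val_one, Matrix.one_mulVec]
    have hu1 : (inc (cc ^ 2)).1.1 = u * u ∧ (inc (cc ^ 2)).1.2 = u * u := by
      rw [sq]; exact ⟨rfl, rfl⟩
    have h := hf (inc (cc ^ 2)) x
    rw [hu1.1, hu1.2] at h
    have hinv : ∀ M : Matrix (Fin 2) (Fin 2) F, ((u * u : GL (Fin 2) F) : Matrix (Fin 2) (Fin 2) F) * M *
        (((u * u)⁻¹ : GL (Fin 2) F) : Matrix (Fin 2) (Fin 2) F) = M := fun M => by
      rw [show ((u * u : GL (Fin 2) F) : Matrix (Fin 2) (Fin 2) F) * M =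
        M * ((u * u : GL (Fin 2) F) : Matrix (Fin 2) (Fin 2) F) by
          rw [husq, Matrix.smul_mul, Matrix.mul_smul, one_mul, mul_one],
        mul_assoc, Units.mul_inv, mul_one]
    exact ext_MW (h.1.trans (hinv _)) (h.2.trans (hinv _))
  have hsq : SqComm ψ.range := by
    let j1 : dd.ker →* Δ.ker := ((MonoidHom.inl _ _).comp dd.ker.subtype).codRestrict _ fun s =>
      (hΔ _).2 (by simp [MonoidHom.mem_ker.1 s.2])
    let j2 : dd.ker →* Δ.ker := ((MonoidHom.inr _ _).comp dd.ker.subtype).codRestrict _ fun s =>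
      (hΔ _).2 (by simp [MonoidHom.mem_ker.1 s.2])
    have hgen : Subgroup.closure (Set.range j1 ∪ Set.range j2 ∪ {cc}) = ⊤ := by
      rw [eq_top_iff]
      rintro ⟨⟨d, e⟩, hde⟩ -
      have hdm : dd d ∈ (μ : Subgroup Fˣ) := hrange ▸ ⟨d, rfl⟩
      obtain ⟨i, hi⟩ := Subgroup.mem_zpowers_iff.1 (hζ (⟨dd d, hdm⟩ : (μ : Subgroup Fˣ)))
      have hi' : ζ ^ i = dd d := congrArg Subtype.val hi
      obtain ⟨w, hw⟩ : ∃ w, w = ((⟨u, huD⟩ : (D : Subgroup (GL (Fin 2) F))) ^ i)⁻¹ := ⟨_, rfl⟩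
      have hwd : dd w = (dd d)⁻¹ := by rw [hw, map_inv, map_zpow, show dd ⟨u, huD⟩ = ζ from hudet, hi']
      have h1 : w * d ∈ dd.ker := MonoidHom.mem_ker.2 (by rw [map_mul, hwd, inv_mul_cancel])
      have h2 : w * e ∈ dd.ker := MonoidHom.mem_ker.2 (by
        rw [map_mul, hwd, show dd e = dd d from ((hΔ (d, e)).1 hde).symm, inv_mul_cancel])
      have heq : (⟨(d, e), hde⟩ : Δ.ker) = cc ^ i * (j1 ⟨_, h1⟩ * j2 ⟨_, h2⟩) := by
        refine Subtype.ext (Prod.ext ?_ ?_)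
        · show d = (⟨u, huD⟩ : (D : Subgroup (GL (Fin 2) F))) ^ i * (w * d * 1)
          rw [mul_one, hw, mul_inv_cancel_left]
        · show e = (⟨u, huD⟩ : (D : Subgroup (GL (Fin 2) F))) ^ i * (1 * (w * e))
          rw [one_mul, hw, mul_inv_cancel_left]
      rw [heq]
      refine mul_mem (Subgroup.zpow_mem _ ?_ i) (mul_mem ?_ ?_)
      · exact Subgroup.subset_closure (Or.inr rfl)
      · exact Subgroup.subset_closure (Or.inl (Or.inl ⟨_, rfl⟩))
      · exact Subgroup.subset_closure (Or.inl (Or.inr ⟨_, rfl⟩))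
    refine sqComm_of_closure (s := ρ '' (Set.range j1 ∪ Set.range j2 ∪ {cc})) ?_ ?_
    · rw [← MonoidHom.map_closure, hgen, Subgroup.map_top_of_surjective _ ψ.rangeRestrict_surjective]
    · rintro _ ⟨y, ((⟨s, rfl⟩ | ⟨s, rfl⟩) | rfl), rfl⟩
      · rw [← map_pow, ← map_pow]
        exact map_mem_commutator (ρ.comp j1) (hS0 s)
      · rw [← map_pow, ← map_pow]
        exact map_mem_commutator (ρ.comp j2) (hS0 s)
      · rw [hccsq]; exact Subgroup.one_mem _
  obtain ⟨e⟩ := CfsgLib.Classical.SylowLargePrime.sylow_iso ψ.range.subtype Subtype.val_injective hcard P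
  exact sqComm_congr e.symm hsq

end Cfsg.Agent.GTwoZorn
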